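import Mathlib
import Groth.Prelude.Def_DCoh2
import Groth.Prelude.Def_DCoh3
import Groth.Agent.Lib.Helper49.AffineHom
import Groth.Agent.Lib.Helper49.QCohLocal
import Groth.Agent.Lib.Helper32.RDerCrit
import Groth.Agent.Lib.Helper32.OpenKInj
import Groth.Agent.Lib.Helper5.LpullRpushAdj

/-!
# The derived direct image along an isomorphism of schemes is restriction along its inverse
(helper30)
-/

set_option autoImplicit false
universe u
open CategoryTheory CategoryTheory.Limits AlgebraicGeometry TopologicalSpace Opposite
attribute [local instance] HasDerivedCategory.standard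

namespace Groth.Agent.Lib.Helper30.AffinePush

open Scheme.Modules Groth.Agent.Lib.Helper5

variable {X Y : Scheme.{u}} (e : X ≅ Y)

/-- direct image along an isomorphism is restriction along the inverse -/
noncomputable def pushforwardIsoRestrict : pushforward e.hom ≅ restrictFunctor e.inv :=
  ((pullbackPushforwardAdjunction e.hom).ofNatIsoLeft
    (restrictFunctorIsoPullback e.hom).symm).rightAdjointUniq
    (Groth.Agent.Lib.Helper49.restrictEquivalence e).toAdjunction

/-- the same on homotopy categories -/
noncomputable def pushforwardIsoRestrictK :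
    (pushforward e.hom).mapHomotopyCategory (ComplexShape.up ℤ) ≅
      (restrictFunctor e.inv).mapHomotopyCategory (ComplexShape.up ℤ) where
  hom := NatTrans.mapHomotopyCategory (pushforwardIsoRestrict e).hom _
  inv := NatTrans.mapHomotopyCategory (pushforwardIsoRestrict e).inv _
  hom_inv_id := by
    rw [← NatTrans.mapHomotopyCategory_comp, Iso.hom_inv_id, NatTrans.mapHomotopyCategory_id]
  inv_hom_id := by
    rw [← NatTrans.mapHomotopyCategory_comp, Iso.inv_hom_id, NatTrans.mapHomotopyCategory_id]

/-- `R e_* ≅ (e⁻¹)^*` for an isomorphism `e` -/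
theorem nonempty_Rpush_iso_restrictD [DCoh.HasRpush e.hom] :
    Nonempty (DCoh.Rpush e.hom ≅ DCoh.restrictD e.inv) := by
  let β : DCoh.pushKh e.hom ⟶ DerivedCategory.Qh ⋙ DCoh.restrictD e.inv :=
    Functor.whiskerRight (pushforwardIsoRestrictK e).hom DerivedCategory.Qh ≫
      (restrictFunctor e.inv).mapDerivedCategoryFactorsh.inv
  have hβ : IsIso β := inferInstance
  have : (DCoh.restrictD e.inv).IsRightDerivedFunctor β
      (HomotopyCategory.quasiIso X.Modules (ComplexShape.up ℤ)) :=
    Groth.Agent.Lib.Helper32.RDerCrit.isRightDerivedFunctor_of_isIso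
      (Groth.Agent.Lib.Helper32.OpenKInj.hasKInjRes X) (DCoh.restrictD e.inv) β
      (fun I _ => inferInstance)
  exact ⟨Functor.rightDerivedUnique (DCoh.Rpush e.hom) (DCoh.restrictD e.inv)
    (LpullRpushAdj.β e.hom) β (HomotopyCategory.quasiIso X.Modules (ComplexShape.up ℤ))⟩

end Groth.Agent.Lib.Helper30.AffinePush
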