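import Mathlib
import Groth.Prelude.Def_DCoh2
import Groth.Agent.Lib.Helper32.OpenKInj
import Groth.Agent.Lib.Helper49.AffineHom
import Groth.Agent.Lib.Helper49.QCohLocal
import Groth.Agent.S0481

/-!
# Restriction along an arbitrary open immersion preserves K-injective complexes (helper30)
-/

set_option autoImplicit false
universe u
open CategoryTheory CategoryTheory.Limits AlgebraicGeometry TopologicalSpace Opposite

namespace Groth.Agent.Lib.Helper30.AffinePush

open Scheme.Modules

/-- restriction along an isomorphism preserves K-injective complexes -/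
theorem isKInjective_restrict_of_iso {W V : Scheme.{u}} (e : W ≅ V)
    (I : CochainComplex V.Modules ℤ) (hI : I.IsKInjective) :
    CochainComplex.IsKInjective
      (((restrictFunctor e.hom).mapHomologicalComplex (ComplexShape.up ℤ)).obj I) :=
  Groth.Agent.S0481.result (restrictFunctor e.hom) (restrictFunctor e.inv)
    (Groth.Agent.Lib.Helper49.restrictEquivalence e).symm.toAdjunction I hI

/-- restriction along an open immersion preserves K-injective complexes -/
theorem isKInjective_restrict_of_isOpenImmersion {W X : Scheme.{u}} (j : W ⟶ X)
    [IsOpenImmersion j] (I : CochainComplex X.Modules ℤ) (hI : I.IsKInjective) :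
    CochainComplex.IsKInjective
      (((restrictFunctor j).mapHomologicalComplex (ComplexShape.up ℤ)).obj I) := by
  let V := j.opensRange
  let e : W ≅ (V : Scheme.{u}) := j.isoOpensRange
  have he : e.hom ≫ V.ι = j := Scheme.Hom.isoOpensRange_hom_ι j
  have h1 := Groth.Agent.Lib.Helper32.OpenKInj.isKInjective_restrict V I hI
  have h2 := isKInjective_restrict_of_iso e _ h1
  let ν : restrictFunctor V.ι ⋙ restrictFunctor e.hom ≅ restrictFunctor j :=
    (restrictFunctorComp e.hom V.ι).symm ≪≫ restrictFunctorCongr he
  have h3 : CochainComplex.IsKInjective (((restrictFunctor V.ι ⋙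
      restrictFunctor e.hom).mapHomologicalComplex (ComplexShape.up ℤ)).obj I) := h2
  exact CochainComplex.isKInjective_of_iso
    ((NatIso.mapHomologicalComplex ν (ComplexShape.up ℤ)).app I)

end Groth.Agent.Lib.Helper30.AffinePush
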