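import Mathlib
import Groth.Prelude.Def_DCoh2
import Groth.Agent.Lib.Helper83.SectQis
import Groth.Agent.Lib.Helper83.ModCoh

/-!
# Quasi-isomorphisms of complexes of `O_X`-modules are detected on sections over affine opens
(helper30)
-/

set_option autoImplicit false
universe u
open CategoryTheory CategoryTheory.Limits AlgebraicGeometry TopologicalSpace Opposite

namespace Groth.Agent.Lib.Helper30.AffinePush

/-- the underlying sheaf of abelian groups -/
noncomputable def toSh (X : Scheme.{u}) :
    X.Modules ⥤ Sheaf (Opens.grothendieckTopology X) AddCommGrpCat.{u} :=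
  SheafOfModules.toSheaf.{u} X.ringCatSheaf

instance (X : Scheme.{u}) : (toSh X).Additive where
  map_add := rfl

instance (X : Scheme.{u}) : PreservesFiniteLimits (toSh X) :=
  inferInstanceAs (PreservesFiniteLimits (SheafOfModules.toSheaf.{u} X.ringCatSheaf))

instance (X : Scheme.{u}) : PreservesFiniteColimits (toSh X) :=
  inferInstanceAs (PreservesFiniteColimits (SheafOfModules.toSheaf.{u} X.ringCatSheaf))

instance (X : Scheme.{u}) : (toSh X).ReflectsIsomorphisms :=
  inferInstanceAs (SheafOfModules.toSheaf.{u} X.ringCatSheaf).ReflectsIsomorphisms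

/-- sections over `U`, as an abelian group -/
noncomputable def secU {X : Scheme.{u}} (U : X.Opens) : X.Modules ⥤ AddCommGrpCat.{u} :=
  toSh X ⋙ sheafToPresheaf _ _ ⋙ (evaluation _ _).obj (op U)

instance {X : Scheme.{u}} (U : X.Opens) : (secU U).Additive := by
  unfold secU
  infer_instance

section NatIso

variable {A B : Type*} [Category A] [Category B] [Abelian A] [Abelian B]
  {F G : A ⥤ B} [F.Additive] [G.Additive]

/-- quasi-isomorphisms after applying naturally isomorphic functors -/
lemma quasiIso_map_of_natIso (e : F ≅ G) {K L : CochainComplex A ℤ} (φ : K ⟶ L)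
    (h : QuasiIso ((F.mapHomologicalComplex (ComplexShape.up ℤ)).map φ)) :
    QuasiIso ((G.mapHomologicalComplex (ComplexShape.up ℤ)).map φ) := by
  let E := NatIso.mapHomologicalComplex e (ComplexShape.up ℤ)
  have h1 : (G.mapHomologicalComplex (ComplexShape.up ℤ)).map φ =
      E.inv.app K ≫ (F.mapHomologicalComplex (ComplexShape.up ℤ)).map φ ≫ E.hom.app L := by
    rw [E.hom.naturality φ, Iso.inv_hom_id_app_assoc]
  rw [h1]
  infer_instance

end NatIso

variable {X : Scheme.{u}}

/-- a morphism of complexes of `O_X`-modules inducing quasi-isomorphisms on sections over all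
affine opens is a quasi-isomorphism -/
theorem quasiIso_of_sections {K L : CochainComplex X.Modules ℤ} (φ : K ⟶ L)
    (h : ∀ U : X.Opens, IsAffineOpen U →
      QuasiIso (((secU U).mapHomologicalComplex (ComplexShape.up ℤ)).map φ)) : QuasiIso φ := by
  have hT : QuasiIso (((toSh X).mapHomologicalComplex (ComplexShape.up ℤ)).map φ) := by
    rw [quasiIso_iff]
    intro m
    apply Groth.Agent.Lib.Helper83.SectQis.quasiIsoAt_of_sections
      (Opens.grothendieckTopology X) _ m {U | IsAffineOpen U}
    · intro U
      refine ⟨{V : X.Opens // IsAffineOpen V ∧ V ≤ U}, fun V => V.1, fun V => homOfLE V.2.2,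
        ?_, fun V => V.2.1⟩
      intro x hx
      obtain ⟨_, ⟨V, hV, rfl⟩, hxV, hVU⟩ := X.isBasis_affineOpens.exists_subset_of_mem_open hx U.2
      exact ⟨V, homOfLE hVU, Sieve.ofArrows_mk
        (fun V : {V : X.Opens // IsAffineOpen V ∧ V ≤ U} => V.1) (fun V => homOfLE V.2.2)
        ⟨V, hV, hVU⟩, hxV⟩
    · intro U hU
      have := h U hU
      have h2 : QuasiIsoAt (((secU U).mapHomologicalComplex (ComplexShape.up ℤ)).map φ) m :=
        inferInstance
      exact h2
  exact (HomologicalComplex.quasiIso_map_iff_of_preservesHomology φ (toSh X)).mp hT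

end Groth.Agent.Lib.Helper30.AffinePush
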