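import Mathlib
import Groth.Prelude.Def_DCoh2
import Groth.Agent.Lib.Helper30.DQC.TildeFF
import Groth.Agent.Lib.Helper30.PCQCoh
import Groth.Agent.Lib.Helper49.TildeExact

/-!
# Global sections of complexes of quasi-coherent modules on `Spec R` compute `RΓ` (helper30)

* `isIso_βG_app`: for a complex `F` of quasi-coherent modules on `Spec R`, the canonical map
  `Γ(Spec R, F) ⟶ RΓ(Spec R, F)` is an isomorphism in `D(R)`;
* `quasiIso_Γ_map`: if `s : F ⟶ I` is a quasi-isomorphism to a K-injective complex, then
  `Γ(Spec R, s)` is a quasi-isomorphism.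
-/

set_option autoImplicit false
universe u
open CategoryTheory CategoryTheory.Limits AlgebraicGeometry TopologicalSpace Opposite
attribute [local instance] HasDerivedCategory.standard

namespace Groth.Agent.Lib.Helper30.AffinePush

open Groth.Agent.Lib.Helper83.DerivedPush Groth.Agent.Lib.Helper32.KInjDerived
open Groth.Agent.Lib.Helper30.DQC.TildeFF DerivedCategory

variable (R : CommRingCat.{u})

instance tildeExact : PreservesFiniteLimits (tilde.functor R) :=
  Groth.Agent.Lib.Helper49.preservesFiniteLimits_tilde R

/-- a complex of quasi-coherent modules has quasi-coherent cohomology -/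
theorem isQCohD_Q_of_termwise {X : Scheme.{u}} (F : CochainComplex X.Modules ℤ)
    (hq : ∀ n : ℤ, (F.X n).IsQuasicoherent) : DCoh.IsQCohD (DerivedCategory.Q.obj F) := fun i =>
  Groth.Agent.Lib.Helper49.isQuasicoherent_of_iso
    ((DerivedCategory.homologyFunctorFactors X.Modules i).app F).symm
    (Groth.Agent.Lib.Helper30.PCQCoh.isQuasicoherent_homology F hq i)

/-- `Γ(Spec R, F) ⟶ RΓ(Spec R, F)` is an isomorphism for complexes of quasi-coherent modules -/
theorem isIso_βG_app (F : CochainComplex (Spec (CommRingCat.of R)).Modules ℤ)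
    (hq : ∀ n : ℤ, (F.X n).IsQuasicoherent) :
    IsIso ((βG (moduleSpecΓFunctor (R := R)) (hB R)).app
      ((HomotopyCategory.quotient _ (ComplexShape.up ℤ)).obj F)) := by
  have spec := (exists_derivedAdjunctionh (tilde.adjunction (R := R)) (hB R)
    (RG (moduleSpecΓFunctor (R := R)) (hB R)) (βG (moduleSpecΓFunctor (R := R)) (hB R))).choose_spec
    ((HomotopyCategory.quotient _ (ComplexShape.up ℤ)).obj F)
  have h1 : IsIso ((adj R).counit.app (DerivedCategory.Qh.obj
      ((HomotopyCategory.quotient _ (ComplexShape.up ℤ)).obj F))) :=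
    isIso_counit_app R _ (isQCohD_Q_of_termwise F hq)
  have h2 : IsIso ((Groth.Agent.Lib.Helper6.DerivedAdj.adjHomotopyCategory
      (tilde.adjunction (R := R)) (ComplexShape.up ℤ)).counit.app
      ((HomotopyCategory.quotient _ (ComplexShape.up ℤ)).obj F)) := by
    have h3 : IsIso ((Groth.Agent.Lib.Helper6.DerivedAdj.counitC
        (tilde.adjunction (R := R)) (ComplexShape.up ℤ)).app F) := by
      have : ∀ n, IsIso (((Groth.Agent.Lib.Helper6.DerivedAdj.counitC
          (tilde.adjunction (R := R)) (ComplexShape.up ℤ)).app F).f n) := by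
        intro n
        have := hq n
        change IsIso ((F.X n).fromTildeΓ)
        infer_instance
      exact HomologicalComplex.Hom.isIso_of_components _
    change IsIso ((HomotopyCategory.quotient _ (ComplexShape.up ℤ)).map
      ((Groth.Agent.Lib.Helper6.DerivedAdj.counitC
        (tilde.adjunction (R := R)) (ComplexShape.up ℤ)).app F))
    infer_instance
  have h4 : IsIso ((DCoh.tildeD R).map ((βG (moduleSpecΓFunctor (R := R)) (hB R)).app
      ((HomotopyCategory.quotient _ (ComplexShape.up ℤ)).obj F))) := by
    have h5 : IsIso ((DCoh.tildeD R).map ((βG (moduleSpecΓFunctor (R := R)) (hB R)).app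
        ((HomotopyCategory.quotient _ (ComplexShape.up ℤ)).obj F)) ≫
        (adj R).counit.app (DerivedCategory.Qh.obj
          ((HomotopyCategory.quotient _ (ComplexShape.up ℤ)).obj F))) := by
      rw [show (adj R) = _ from rfl]
      erw [spec]
      infer_instance
    exact @IsIso.of_isIso_comp_right _ _ _ _ _ _ _ h1 h5
  have hff := (main R)
  have := hff.1
  have := hff.2.1
  exact isIso_of_fully_faithful (DCoh.tildeD R) _

/-- global sections on `Spec R` of a K-injective resolution of a complex of quasi-coherent
modules -/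
theorem quasiIso_Γ_map {F I : CochainComplex (Spec (CommRingCat.of R)).Modules ℤ} (s : F ⟶ I)
    [QuasiIso s] [I.IsKInjective] (hq : ∀ n : ℤ, (F.X n).IsQuasicoherent) :
    QuasiIso (((moduleSpecΓFunctor (R := R)).mapHomologicalComplex (ComplexShape.up ℤ)).map s) := by
  let β := βG (moduleSpecΓFunctor (R := R)) (hB R)
  let q := HomotopyCategory.quotient (Spec (CommRingCat.of R)).Modules (ComplexShape.up ℤ)
  have hF : IsIso (β.app (q.obj F)) := isIso_βG_app R F hq
  have hI : IsIso (β.app (q.obj I)) :=
    isIso_app_of_isTerminal (hasTerminalArrows_Qh (hB R))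
      (HomotopyCategory.quasiIso _ (ComplexShape.up ℤ))
      (RG (moduleSpecΓFunctor (R := R)) (hB R)) β _ (isTerminalMkId I)
  have hs : IsIso (DerivedCategory.Qh.map (q.map s)) := by
    change IsIso (DerivedCategory.Q.map s)
    infer_instance
  have hs' : IsIso ((DerivedCategory.Qh ⋙ RG (moduleSpecΓFunctor (R := R)) (hB R)).map
      (q.map s)) := by
    rw [Functor.comp_map]
    infer_instance
  have nat := β.naturality (q.map s)
  have h1 : IsIso ((T (moduleSpecΓFunctor (R := R))).map (q.map s)) := by
    have h2 : IsIso ((T (moduleSpecΓFunctor (R := R))).map (q.map s) ≫ β.app (q.obj I)) := by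
      rw [nat]
      infer_instance
    exact @IsIso.of_isIso_comp_right _ _ _ _ _ _ _ hI h2
  have h3 : IsIso (DerivedCategory.Q.map
      (((moduleSpecΓFunctor (R := R)).mapHomologicalComplex (ComplexShape.up ℤ)).map s)) := h1
  exact (DerivedCategory.isIso_Q_map_iff_quasiIso _ _).mp h3

end Groth.Agent.Lib.Helper30.AffinePush
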