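import Mathlib
import Groth.Prelude.Def_DCoh2
import Groth.Agent.Lib.Helper30.AffinePush.SpecSections
import Groth.Agent.Lib.Helper30.AffinePush.KInjRestrict
import Groth.Agent.Lib.Helper30.AffinePush.SectionsQis

/-!
# Sections over an affine open of a complex of quasi-coherent modules compute `RΓ` (helper30)
-/

set_option autoImplicit false
universe u
open CategoryTheory CategoryTheory.Limits AlgebraicGeometry TopologicalSpace Opposite

namespace Groth.Agent.Lib.Helper30.AffinePush

open Scheme.Modules

/-- sections of the restriction along an open immersion from an affine scheme -/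
noncomputable def secRestrictIso {X : Scheme.{u}} (R : CommRingCat.{u})
    (j : Spec (CommRingCat.of R) ⟶ X) [IsOpenImmersion j] :
    restrictFunctor j ⋙ moduleSpecΓFunctor (R := R) ⋙ forget₂ (ModuleCat.{u} R) AddCommGrpCat.{u} ≅
      secU (j ''ᵁ ⊤) :=
  NatIso.ofComponents (fun M => Iso.refl _) (fun f => by rfl)

/-- sections over the image of an open immersion from `Spec R` of a K-injective resolution of a
complex of quasi-coherent modules -/
theorem quasiIso_secU_image {X : Scheme.{u}} (R : CommRingCat.{u})
    (j : Spec (CommRingCat.of R) ⟶ X) [IsOpenImmersion j]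
    {F I : CochainComplex X.Modules ℤ} (s : F ⟶ I) [QuasiIso s] (hI : I.IsKInjective)
    (hq : ∀ n : ℤ, (F.X n).IsQuasicoherent) :
    QuasiIso (((secU (j ''ᵁ ⊤)).mapHomologicalComplex (ComplexShape.up ℤ)).map s) := by
  let s' := ((restrictFunctor j).mapHomologicalComplex (ComplexShape.up ℤ)).map s
  have hs' : QuasiIso s' := inferInstance
  have hI' := isKInjective_restrict_of_isOpenImmersion j I hI
  have hq' : ∀ n : ℤ, ((((restrictFunctor j).mapHomologicalComplex
      (ComplexShape.up ℤ)).obj F).X n).IsQuasicoherent := fun n => by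
    have := hq n
    change ((restrictFunctor j).obj (F.X n)).IsQuasicoherent
    infer_instance
  have h1 : QuasiIso (((moduleSpecΓFunctor (R := R)).mapHomologicalComplex
      (ComplexShape.up ℤ)).map s') := quasiIso_Γ_map R s' hq'
  have h2 : QuasiIso (((forget₂ (ModuleCat.{u} R) AddCommGrpCat.{u}).mapHomologicalComplex
      (ComplexShape.up ℤ)).map (((moduleSpecΓFunctor (R := R)).mapHomologicalComplex
      (ComplexShape.up ℤ)).map s')) := inferInstance
  have h3 : QuasiIso (((restrictFunctor j ⋙ moduleSpecΓFunctor (R := R) ⋙
      forget₂ (ModuleCat.{u} R) AddCommGrpCat.{u}).mapHomologicalComplex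
      (ComplexShape.up ℤ)).map s) := h2
  exact quasiIso_map_of_natIso (secRestrictIso R j) s h3

/-- sections over an affine open of a K-injective resolution of a complex of quasi-coherent
modules -/
theorem quasiIso_secU_map {X : Scheme.{u}} {F I : CochainComplex X.Modules ℤ} (s : F ⟶ I)
    [QuasiIso s] (hI : I.IsKInjective) (hq : ∀ n : ℤ, (F.X n).IsQuasicoherent)
    (U : X.Opens) (hU : IsAffineOpen U) :
    QuasiIso (((secU U).mapHomologicalComplex (ComplexShape.up ℤ)).map s) := by
  have h := quasiIso_secU_image Γ(X, U) hU.fromSpec s hI hq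
  have hU' : hU.fromSpec ''ᵁ ⊤ = U := by
    rw [Scheme.Hom.image_top_eq_opensRange, hU.opensRange_fromSpec]
  rw [hU'] at h
  exact h

end Groth.Agent.Lib.Helper30.AffinePush
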