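import Mathlib
import Groth.Prelude.Def_DCoh2
import Groth.Agent.Lib.Helper30.AffinePush.AffineSections
import Groth.Agent.Lib.Helper5.LpullRpushAdj

/-!
# For an affine morphism `f`, `f_* F ⟶ Rf_* F` is an isomorphism on complexes of quasi-coherent
modules (helper30)
-/

set_option autoImplicit false
universe u
open CategoryTheory CategoryTheory.Limits AlgebraicGeometry TopologicalSpace Opposite
attribute [local instance] HasDerivedCategory.standard

namespace Groth.Agent.Lib.Helper30.AffinePush

open Scheme.Modules Groth.Agent.Lib.Helper5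

variable {X S : Scheme.{u}} (f : X ⟶ S)

/-- `f_*` of a K-injective resolution of a complex of quasi-coherent modules is a
quasi-isomorphism, for `f` affine -/
theorem quasiIso_pushforward_map [IsAffineHom f] {F I : CochainComplex X.Modules ℤ} (s : F ⟶ I)
    [QuasiIso s] (hI : I.IsKInjective) (hq : ∀ n : ℤ, (F.X n).IsQuasicoherent) :
    QuasiIso (((pushforward f).mapHomologicalComplex (ComplexShape.up ℤ)).map s) := by
  apply quasiIso_of_sections
  intro V hV
  have h := quasiIso_secU_map s hI hq (f ⁻¹ᵁ V) (hV.preimage f)
  exact h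

/-- for `f` affine and `F` a complex of quasi-coherent modules, `f_* F ⟶ Rf_* F` is an
isomorphism -/
theorem isIso_β_app_of_isAffineHom [IsAffineHom f] [DCoh.HasRpush f]
    (F : CochainComplex X.Modules ℤ) (hq : ∀ n : ℤ, (F.X n).IsQuasicoherent) :
    IsIso ((LpullRpushAdj.β f).app
      ((HomotopyCategory.quotient X.Modules (ComplexShape.up ℤ)).obj F)) := by
  obtain ⟨I, s, hI, hs⟩ := Groth.Agent.Lib.Helper32.OpenKInj.hasKInjRes X F
  let q := HomotopyCategory.quotient X.Modules (ComplexShape.up ℤ)
  have h1 := quasiIso_pushforward_map f s hI hq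
  have hI' : IsIso ((LpullRpushAdj.β f).app (q.obj I)) := LpullRpushAdj.isIso_β_app f I
  have h2 : IsIso ((DCoh.pushKh f).map (q.map s)) := by
    change IsIso (DerivedCategory.Q.map
      (((pushforward f).mapHomologicalComplex (ComplexShape.up ℤ)).map s))
    infer_instance
  have h3 : IsIso ((DerivedCategory.Qh ⋙ DCoh.Rpush f).map (q.map s)) := by
    have : IsIso (DerivedCategory.Qh.map (q.map s)) := by
      change IsIso (DerivedCategory.Q.map s)
      infer_instance
    rw [Functor.comp_map]
    infer_instance
  have nat := (LpullRpushAdj.β f).naturality (q.map s)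
  have h4 : IsIso ((LpullRpushAdj.β f).app (q.obj F) ≫
      (DerivedCategory.Qh ⋙ DCoh.Rpush f).map (q.map s)) := by
    rw [← nat]
    infer_instance
  exact @IsIso.of_isIso_comp_right _ _ _ _ _ _ _ h3 h4

end Groth.Agent.Lib.Helper30.AffinePush
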