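import Mathlib
import Groth.Prelude.Def_DCoh2

/-!
# `(Spec φ)_* (N~) ≅ (N_R)~` (helper30)
-/

set_option autoImplicit false
universe u
open CategoryTheory CategoryTheory.Limits AlgebraicGeometry TopologicalSpace Opposite

namespace Groth.Agent.Lib.Helper30.AffinePush

open Scheme.Modules

variable {R S : CommRingCat.{u}} (φ : R ⟶ S)

/-- `Γ(Spec R, f_* M) = Γ(Spec S, M)` with scalars restricted to `R` -/
noncomputable def pushΓIso :
    pushforward (Spec.map φ) ⋙ moduleSpecΓFunctor (R := R) ≅
      moduleSpecΓFunctor (R := S) ⋙ ModuleCat.restrictScalars φ.hom :=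
  Functor.isoWhiskerRight (pushforwardCompModulesSpecToSheafIso φ)
    (TopCat.Sheaf.forget _ _ ⋙ (evaluation _ _).obj (op ⊤)) ≪≫
    NatIso.ofComponents (fun M => Iso.refl _) (by intros; rfl)

/-- the counit `(Γ(f_* N~))~ ⟶ f_* N~`, as a natural transformation -/
noncomputable def tildePushCounit :
    (tilde.functor S ⋙ pushforward (Spec.map φ)) ⋙
        (moduleSpecΓFunctor (R := R) ⋙ tilde.functor R) ⟶
      tilde.functor S ⋙ pushforward (Spec.map φ) :=
  Functor.whiskerLeft _ (tilde.adjunction (R := R)).counit ≫ (Functor.rightUnitor _).hom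

instance isIso_tildePushCounit : IsIso (tildePushCounit φ) := by
  have : ∀ N, IsIso ((tildePushCounit φ).app N) := by
    intro N
    have h1 : IsIso (((pushforward (Spec.map φ)).obj ((tilde.functor S).obj N)).fromTildeΓ) :=
      isIso_fromTildeΓ_pushforward φ _
    have h2 : (tildePushCounit φ).app N =
        ((pushforward (Spec.map φ)).obj ((tilde.functor S).obj N)).fromTildeΓ ≫ 𝟙 _ := rfl
    rw [h2, Category.comp_id]
    exact h1
  exact NatIso.isIso_of_isIso_app _

/-- `(Spec φ)_* (N~) ≅ (N_R)~`, naturally in `N` -/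
noncomputable def tildePushIso :
    tilde.functor S ⋙ pushforward (Spec.map φ) ≅
      ModuleCat.restrictScalars φ.hom ⋙ tilde.functor R :=
  (asIso (tildePushCounit φ)).symm ≪≫
    Functor.associator _ _ _ ≪≫
    Functor.isoWhiskerLeft (tilde.functor S)
      ((Functor.associator _ _ _).symm ≪≫
        Functor.isoWhiskerRight (pushΓIso φ) (tilde.functor R) ≪≫
        Functor.associator _ _ _) ≪≫
    (Functor.associator _ _ _).symm ≪≫
    Functor.isoWhiskerRight (tilde.toTildeΓNatIso (R := S)).symm
      (ModuleCat.restrictScalars φ.hom ⋙ tilde.functor R) ≪≫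
    Functor.leftUnitor _

end Groth.Agent.Lib.Helper30.AffinePush
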