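import Mathlib
import Groth.Prelude.Def_DCoh2
import Groth.Prelude.Def_DDual2
import Groth.Agent.Lib.Helper30.AffinePush.Main
import Groth.Agent.Lib.Helper30.AffinePush.TildePush

/-!
# `R(Spec φ)_* (M~) ≅ (M_R)~` on derived categories (helper30)
-/

set_option autoImplicit false
universe u
open CategoryTheory CategoryTheory.Limits AlgebraicGeometry TopologicalSpace Opposite
attribute [local instance] HasDerivedCategory.standard

namespace Groth.Agent.Lib.Helper30.AffinePush

open Scheme.Modules Groth.Agent.Lib.Helper5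

variable {R S : CommRingCat.{u}} (φ : R ⟶ S)

/-- the natural transformation `f_* K ⟶ Rf_* K` on complexes -/
noncomputable def βCx {X Y : Scheme.{u}} (f : X ⟶ Y) [DCoh.HasRpush f] :
    (pushforward f).mapHomologicalComplex (ComplexShape.up ℤ) ⋙ DerivedCategory.Q ⟶
      DerivedCategory.Q ⋙ DCoh.Rpush f where
  app K := (LpullRpushAdj.β f).app ((HomotopyCategory.quotient _ (ComplexShape.up ℤ)).obj K)
  naturality _ _ g :=
    (LpullRpushAdj.β f).naturality ((HomotopyCategory.quotient _ (ComplexShape.up ℤ)).map g)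

variable [DCoh.HasRpush (Spec.map φ)]

/-- `βCx` on complexes of the form `K~` -/
noncomputable def βTilde :
    (tilde.functor S).mapHomologicalComplex (ComplexShape.up ℤ) ⋙
        ((pushforward (Spec.map φ)).mapHomologicalComplex (ComplexShape.up ℤ) ⋙
          DerivedCategory.Q) ⟶
      (tilde.functor S).mapHomologicalComplex (ComplexShape.up ℤ) ⋙
        (DerivedCategory.Q ⋙ DCoh.Rpush (Spec.map φ)) :=
  Functor.whiskerLeft _ (βCx (Spec.map φ))

instance isIso_βTilde : IsIso (βTilde φ) := by
  have : ∀ K, IsIso ((βTilde φ).app K) := by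
    intro K
    exact isIso_β_app_of_isAffineHom (Spec.map φ)
      (((tilde.functor S).mapHomologicalComplex (ComplexShape.up ℤ)).obj K)
      (fun n => by
        change ((tilde.functor S).obj (K.X n)).IsQuasicoherent
        infer_instance)
  exact NatIso.isIso_of_isIso_app _

/-- `R(Spec φ)_* (M~) ≅ (M_R)~`, naturally in `M ∈ D(S)` -/
theorem nonempty_tildeD_Rpush_iso :
    Nonempty (DCoh.tildeD S ⋙ DCoh.Rpush (Spec.map φ) ≅
      DRing.restrictD φ.hom ⋙ DCoh.tildeD R) := by
  let c := ComplexShape.up ℤ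
  let F₁ : CochainComplex (ModuleCat.{u} S) ℤ ⥤ DCoh.D (Spec (CommRingCat.of R)) :=
    (tilde.functor S).mapHomologicalComplex c ⋙
      ((pushforward (Spec.map φ)).mapHomologicalComplex c ⋙ DerivedCategory.Q)
  let F₂ : CochainComplex (ModuleCat.{u} S) ℤ ⥤ DCoh.D (Spec (CommRingCat.of R)) :=
    (ModuleCat.restrictScalars.{u} φ.hom).mapHomologicalComplex c ⋙
      ((tilde.functor R).mapHomologicalComplex c ⋙ DerivedCategory.Q)
  let iso₁ : DerivedCategory.Q ⋙ (DCoh.tildeD S ⋙ DCoh.Rpush (Spec.map φ)) ≅ F₁ :=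
    (Functor.associator _ _ _).symm ≪≫
      Functor.isoWhiskerRight (tilde.functor S).mapDerivedCategoryFactors
        (DCoh.Rpush (Spec.map φ)) ≪≫
      Functor.associator _ _ _ ≪≫ (asIso (βTilde φ)).symm
  let iso₂ : DerivedCategory.Q ⋙ (DRing.restrictD φ.hom ⋙ DCoh.tildeD R) ≅ F₂ :=
    (Functor.associator _ _ _).symm ≪≫
      Functor.isoWhiskerRight (ModuleCat.restrictScalars.{u} φ.hom).mapDerivedCategoryFactors
        (DCoh.tildeD R) ≪≫
      Functor.associator _ _ _ ≪≫
      Functor.isoWhiskerLeft _ (tilde.functor R).mapDerivedCategoryFactors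
  have hadd : (ModuleCat.restrictScalars.{u} φ.hom ⋙ tilde.functor R).Additive :=
    Functor.additive_of_iso (tildePushIso φ)
  let E : (tilde.functor S).mapHomologicalComplex c ⋙
        (pushforward (Spec.map φ)).mapHomologicalComplex c ≅
      (ModuleCat.restrictScalars.{u} φ.hom).mapHomologicalComplex c ⋙
        (tilde.functor R).mapHomologicalComplex c :=
    Functor.mapHomologicalComplexCompIso (tildePushIso φ) c ≪≫
      (Functor.mapHomologicalComplexCompIso
        (Iso.refl (ModuleCat.restrictScalars.{u} φ.hom ⋙ tilde.functor R)) c).symm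
  let e : F₁ ≅ F₂ :=
    (Functor.associator _ _ _).symm ≪≫ Functor.isoWhiskerRight E DerivedCategory.Q ≪≫
      Functor.associator _ _ _
  let _ : Localization.Lifting DerivedCategory.Q
      (HomologicalComplex.quasiIso (ModuleCat.{u} S) c) F₁
      (DCoh.tildeD S ⋙ DCoh.Rpush (Spec.map φ)) := ⟨iso₁⟩
  let _ : Localization.Lifting DerivedCategory.Q
      (HomologicalComplex.quasiIso (ModuleCat.{u} S) c) F₂
      (DRing.restrictD φ.hom ⋙ DCoh.tildeD R) := ⟨iso₂⟩
  exact ⟨Localization.liftNatIso DerivedCategory.Q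
    (HomologicalComplex.quasiIso (ModuleCat.{u} S) c) F₁ F₂ _ _ e⟩

end Groth.Agent.Lib.Helper30.AffinePush
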