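import Mathlib
import Groth.Prelude.Def_DCoh2
import Groth.Prelude.Def_DCoh3
import Groth.Agent.Lib.Helper30.AffinePush.RpushIso
import Groth.Agent.Lib.Helper30.AffinePush.TildeRpush
import Groth.Agent.Lib.Helper30.PerfRestrict
import Groth.Agent.Lib.Helper32.RGammaPush
import Groth.Agent.Lib.Helper32.GlueTwo
import Groth.Agent.Lib.Helper32.OpenSupp
import Groth.Agent.S0922

/-!
# `Rf_*` in affine charts, for an affine morphism `f` (helper30)

For `f : X ⟶ Y` affine, `V ⊆ Y` an affine open and `U = f⁻¹V`: the chart object of `Rf_* E` on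
`Spec Γ(Y, V)` is `R(Spec φ)_*` of the chart object of `E` on `Spec Γ(X, U)`, where
`φ : Γ(Y, V) ⟶ Γ(X, U)`.
-/

set_option autoImplicit false
universe u
open CategoryTheory CategoryTheory.Limits AlgebraicGeometry TopologicalSpace Opposite
attribute [local instance] HasDerivedCategory.standard

namespace Groth.Agent.Lib.Helper30.AffinePush

open Scheme.Modules Groth.Agent.Lib.Helper5 Groth.Agent.Lib.Helper30.PerfRestrict

/-- `Rg_*` exists for every morphism of schemes -/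
theorem hasRpush {P Q : Scheme.{u}} (g : P ⟶ Q) : DCoh.HasRpush g :=
  Groth.Agent.Lib.Helper32.OpenSupp.hasRightDerivedFunctor
    (Groth.Agent.Lib.Helper32.OpenKInj.hasKInjRes P) _

/-- the object of `D(O_{Spec Γ(U)})` attached to `E` and the affine open `U` -/
noncomputable abbrev chartObj {X : Scheme.{u}} {U : X.Opens} (hU : IsAffineOpen U)
    (E : DCoh.D X) : DCoh.D (Spec Γ(X, U)) :=
  (DCoh.restrictD hU.isoSpec.inv).obj ((DCoh.restrictD U.ι).obj E)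

variable {X Y : Scheme.{u}} (f : X ⟶ Y) {V : Y.Opens} (hV : IsAffineOpen V)

/-- the square of charts commutes -/
lemma chart_square (hU : IsAffineOpen (f ⁻¹ᵁ V)) :
    (f ∣_ V) ≫ hV.isoSpec.hom =
      hU.isoSpec.hom ≫ Spec.map (f.appLE V (f ⁻¹ᵁ V) le_rfl) := by
  have h1 := hV.SpecMap_appLE_fromSpec f hU le_rfl
  have h2 : Spec.map (f.appLE V (f ⁻¹ᵁ V) le_rfl) ≫ hV.isoSpec.inv =
      hU.isoSpec.inv ≫ (f ∣_ V) := by
    rw [← cancel_mono V.ι, Category.assoc, Category.assoc, morphismRestrict_ι]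
    exact h1
  calc (f ∣_ V) ≫ hV.isoSpec.hom
      = hU.isoSpec.hom ≫ (hU.isoSpec.inv ≫ (f ∣_ V)) ≫ hV.isoSpec.hom := by simp
    _ = hU.isoSpec.hom ≫ (Spec.map (f.appLE V (f ⁻¹ᵁ V) le_rfl) ≫ hV.isoSpec.inv) ≫
          hV.isoSpec.hom := by rw [h2]
    _ = _ := by simp

/-- `Rf_*` in affine charts -/
theorem nonempty_chartObj_Rpush_iso [IsAffineHom f] [DCoh.HasRpush f]
    [DCoh.HasRpush (Spec.map (f.appLE V (f ⁻¹ᵁ V) le_rfl))] (E : DCoh.D X) :
    Nonempty (chartObj hV ((DCoh.Rpush f).obj E) ≅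
      (DCoh.Rpush (Spec.map (f.appLE V (f ⁻¹ᵁ V) le_rfl))).obj
        (chartObj (hV.preimage f) E)) := by
  have hU := hV.preimage f
  have := hasRpush (f ∣_ V)
  have := hasRpush hV.isoSpec.hom
  have := hasRpush hU.isoSpec.hom
  have := hasRpush ((f ∣_ V) ≫ hV.isoSpec.hom)
  have := hasRpush (hU.isoSpec.hom ≫ Spec.map (f.appLE V (f ⁻¹ᵁ V) le_rfl))
  obtain ⟨c1⟩ := Groth.Agent.Lib.Helper32.RGammaPush.nonempty_rpushRestrictIso f V
  obtain ⟨c2⟩ := nonempty_Rpush_iso_restrictD hV.isoSpec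
  obtain ⟨c3⟩ := Groth.Agent.S0922.result (f ∣_ V) hV.isoSpec.hom
  let c4 := Groth.Agent.Lib.Helper32.GlueTwo.rpushCongr (chart_square f hV hU)
  obtain ⟨c5⟩ := Groth.Agent.S0922.result hU.isoSpec.hom
    (Spec.map (f.appLE V (f ⁻¹ᵁ V) le_rfl))
  obtain ⟨c6⟩ := nonempty_Rpush_iso_restrictD hU.isoSpec
  let K₁ := (DCoh.restrictD (f ⁻¹ᵁ V).ι).obj E
  exact ⟨(DCoh.restrictD hV.isoSpec.inv).mapIso (c1.app E) ≪≫ (c2.app _).symm ≪≫
    c3.app K₁ ≪≫ c4.app K₁ ≪≫ (c5.app K₁).symm ≪≫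
    (DCoh.Rpush (Spec.map (f.appLE V (f ⁻¹ᵁ V) le_rfl))).mapIso (c6.app K₁)⟩

end Groth.Agent.Lib.Helper30.AffinePush
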