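import Mathlib
import Groth.Prelude.Def_DCoh2
import Groth.Prelude.Def_DCoh3
import Groth.Prelude.Def_DRing2
import Groth.Agent.Lib.Helper30.AffinePush.ChartRpush
import Groth.Agent.Lib.Helper30.TildePC
import Groth.Agent.Lib.Helper30.SinglePC
import Groth.Agent.Lib.Helper30.RelTorRestrict
import Groth.Agent.Lib.Helper1.PushSupport
import Groth.Agent.Lib.Helper6.Resol3
import Groth.Agent.S0914
import Groth.Agent.S0997
import Groth.Agent.S6940

/-!
# Pseudo-coherence and direct images along affine morphisms with pseudo-coherent `f_* O_X`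
(helper30)
-/

set_option autoImplicit false
universe u
open CategoryTheory CategoryTheory.Limits AlgebraicGeometry TopologicalSpace Opposite
attribute [local instance] HasDerivedCategory.standard

namespace Groth.Agent.Lib.Helper30.AffinePush

open Scheme.Modules Groth.Agent.Lib.Helper5 Groth.Agent.Lib.Helper30.PerfRestrict
  Groth.Agent.Lib.Helper30.RelTorRestrict Groth.Agent.Lib.Helper30.TildePC
  Groth.Agent.Lib.Helper30.SinglePC

section Locality

variable {X : Scheme.{u}}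

/-- the chart object is the restriction along `Spec Γ(U) ⟶ X` -/
noncomputable def chartIso {U : X.Opens} (hU : IsAffineOpen U) (E : DCoh.D X) :
    chartObj hU E ≅ (rD (hU.isoSpec.inv ≫ U.ι)).obj E :=
  ((rDComp hU.isoSpec.inv U.ι).app E).symm

lemma isPseudoCoherentD_chartObj {U : X.Opens} (hU : IsAffineOpen U) (E : DCoh.D X) (m : ℤ)
    (h : DCoh.IsPseudoCoherentD m E) : DCoh.IsPseudoCoherentD m (chartObj hU E) :=
  Groth.Agent.S0914.isPseudoCoherentD_restrict hU.isoSpec.inv m _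
    (Groth.Agent.S0914.isPseudoCoherentD_restrict U.ι m E h)

/-- pseudo-coherence can be checked on a family of affine charts covering `X` -/
lemma isPseudoCoherentD_of_charts (E : DCoh.D X) (m : ℤ)
    (h : ∀ x : X, ∃ (U : X.Opens) (hU : IsAffineOpen U), x ∈ U ∧
      DCoh.IsPseudoCoherentD m (chartObj hU E)) : DCoh.IsPseudoCoherentD m E := by
  apply isPseudoCoherentD_of_cover
  intro x
  obtain ⟨U, hU, hxU, hpc⟩ := h x
  refine ⟨_, hU.isoSpec.inv ≫ U.ι, inferInstance, ?_, isPseudoCoherentD_of_iso m (chartIso hU E) hpc⟩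
  have : Set.range (hU.isoSpec.inv ≫ U.ι) = U := hU.range_fromSpec
  rw [this]
  exact hxU

lemma exists_chart {U : X.Opens} (hU : IsAffineOpen U) (E : DCoh.D X) (hE : DCoh.IsQCohD E) :
    ∃ M : DerivedCategory (ModuleCat.{u} Γ(X, U)),
      Nonempty (chartObj hU E ≅ (DCoh.tildeD Γ(X, U)).obj M) := by
  have h : DCoh.IsQCohD (chartObj hU E) := isQCohD_restrict _ _ (isQCohD_restrict _ _ hE)
  obtain ⟨M, ⟨e⟩⟩ := ((Groth.Agent.S0997.result Γ(X, U)).2.2 _).mp h
  exact ⟨M, ⟨e.symm⟩⟩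

end Locality

section ChartIff

variable {X Y : Scheme.{u}} (f : X ⟶ Y) [IsAffineHom f] [DCoh.HasRpush f] {V : Y.Opens}
  (hV : IsAffineOpen V)

/-- chart form of `Rf_*` on `D_QCoh`: if `E|_{f⁻¹V} = M~` then `(Rf_*E)|_V = (M_A)~` -/
theorem nonempty_chartObj_Rpush_iso_tildeD (E : DCoh.D X)
    (M : DerivedCategory (ModuleCat.{u} Γ(X, f ⁻¹ᵁ V)))
    (e : chartObj (hV.preimage f) E ≅ (DCoh.tildeD Γ(X, f ⁻¹ᵁ V)).obj M) :
    Nonempty (chartObj hV ((DCoh.Rpush f).obj E) ≅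
      (DCoh.tildeD Γ(Y, V)).obj
        ((DRing.restrictD (f.appLE V (f ⁻¹ᵁ V) le_rfl).hom).obj M)) := by
  have := hasRpush (Spec.map (f.appLE V (f ⁻¹ᵁ V) le_rfl))
  obtain ⟨c⟩ := nonempty_chartObj_Rpush_iso f hV E
  obtain ⟨t⟩ := nonempty_tildeD_Rpush_iso (f.appLE V (f ⁻¹ᵁ V) le_rfl)
  exact ⟨c ≪≫ (DCoh.Rpush _).mapIso e ≪≫ t.app M⟩

/-- pseudo-coherence of `E` on `f⁻¹V` versus pseudo-coherence of `Rf_* E` on `V` -/
theorem isPseudoCoherentD_chart_iff (E : DCoh.D X) (hE : DCoh.IsQCohD E) (m : ℤ) :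
    letI : Algebra Γ(Y, V) Γ(X, f ⁻¹ᵁ V) := (f.appLE V (f ⁻¹ᵁ V) le_rfl).hom.toAlgebra
    DRing.IsPseudoCoherentModule' Γ(Y, V) Γ(X, f ⁻¹ᵁ V) →
    (DCoh.IsPseudoCoherentD m (chartObj (hV.preimage f) E) ↔
      DCoh.IsPseudoCoherentD m (chartObj hV ((DCoh.Rpush f).obj E))) := by
  intro hB
  obtain ⟨M, ⟨e⟩⟩ := exists_chart (hV.preimage f) E hE
  obtain ⟨e'⟩ := nonempty_chartObj_Rpush_iso_tildeD f hV E M e
  have key := (@Groth.Agent.S6940.result Γ(Y, V) Γ(X, f ⁻¹ᵁ V) _ _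
    (f.appLE V (f ⁻¹ᵁ V) le_rfl).hom.toAlgebra hB M m).1
  constructor
  · intro h
    have h1 := isPC_of_isPseudoCoherentD_tildeD _ M m (isPseudoCoherentD_of_iso m e h)
    have h2 := key.mp h1
    exact isPseudoCoherentD_of_iso m e'.symm (isPseudoCoherentD_tildeD _ _ m h2)
  · intro h
    have h1 := isPC_of_isPseudoCoherentD_tildeD _ _ m (isPseudoCoherentD_of_iso m e' h)
    have h2 := key.mpr h1
    exact isPseudoCoherentD_of_iso m e.symm (isPseudoCoherentD_tildeD _ _ m h2)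

end ChartIff

section StructureSheaf

variable {X Y : Scheme.{u}} (f : X ⟶ Y) [IsAffineHom f] [DCoh.HasRpush f]

/-- `Rf_* O_X = f_* O_X` for `f` affine -/
theorem nonempty_Rpush_inD_structureModule_iso :
    Nonempty ((DCoh.Rpush f).obj (DCoh.inD X (Coh.structureModule X)) ≅
      DCoh.inD Y ((pushforward f).obj (Coh.structureModule X))) := by
  let F₀ : CochainComplex X.Modules ℤ :=
    (CochainComplex.singleFunctor X.Modules 0).obj (Coh.structureModule X)
  have hq : ∀ n : ℤ, (F₀.X n).IsQuasicoherent := by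
    intro n
    by_cases hn : n = 0
    · subst hn
      exact Groth.Agent.Lib.Helper49.isQuasicoherent_of_iso
        (HomologicalComplex.singleObjXSelf (ComplexShape.up ℤ) 0 (Coh.structureModule X)).symm
        (Groth.Agent.Lib.Helper1.isQuasicoherent_structureModule X)
    · exact Groth.Agent.Lib.Helper1.isQuasicoherent_of_isZero _
        (HomologicalComplex.isZero_single_obj_X (ComplexShape.up ℤ) 0 _ n hn)
  have hβ := isIso_β_app_of_isAffineHom f F₀ hq
  let e1 : (DCoh.Rpush f).obj (DCoh.inD X (Coh.structureModule X)) ≅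
      (DCoh.Rpush f).obj (DerivedCategory.Q.obj F₀) :=
    (DCoh.Rpush f).mapIso ((DerivedCategory.singleFunctorIsoCompQ X.Modules 0).app _)
  let e2 := (asIso ((LpullRpushAdj.β f).app
    ((HomotopyCategory.quotient X.Modules (ComplexShape.up ℤ)).obj F₀))).symm
  let e3 : DerivedCategory.Q.obj (((pushforward f).mapHomologicalComplex
      (ComplexShape.up ℤ)).obj F₀) ≅
      DerivedCategory.Q.obj ((CochainComplex.singleFunctor Y.Modules 0).obj
        ((pushforward f).obj (Coh.structureModule X))) :=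
    DerivedCategory.Q.mapIso ((HomologicalComplex.singleMapHomologicalComplex (pushforward f)
      (ComplexShape.up ℤ) 0).app (Coh.structureModule X))
  let e4 := ((DerivedCategory.singleFunctorIsoCompQ Y.Modules 0).app
    ((pushforward f).obj (Coh.structureModule X))).symm
  exact ⟨e1 ≪≫ e2 ≪≫ e3 ≪≫ e4⟩

end StructureSheaf

section HB

/-- the chart object of `O_X[0]` is `B[0]~` -/
noncomputable def chartObjStructureIso {X : Scheme.{u}} {U : X.Opens} (hU : IsAffineOpen U) :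
    chartObj hU (DCoh.inD X (Coh.structureModule X)) ≅
      (DCoh.tildeD Γ(X, U)).obj ((DerivedCategory.singleFunctor (ModuleCat.{u} Γ(X, U)) 0).obj
        (ModuleCat.of Γ(X, U) Γ(X, U))) :=
  chartIso hU _ ≪≫ restrictSingleIso (hU.isoSpec.inv ≫ U.ι) (Coh.structureModule X) ≪≫
    (DerivedCategory.singleFunctor _ 0).mapIso
      (restrictUnitIso (hU.isoSpec.inv ≫ U.ι) ≪≫ (tildeSelf (R := Γ(X, U))).symm) ≪≫
    (((tilde.functor Γ(X, U)).mapDerivedCategorySingleFunctor 0).app _).symm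

variable {X Y : Scheme.{u}} (f : X ⟶ Y) [IsAffineHom f] [DCoh.HasRpush f]

/-- if `f_* O_X` is pseudo-coherent then `Γ(f⁻¹V, O_X)` is a pseudo-coherent `Γ(V, O_Y)`-module
for every affine open `V` -/
theorem isPseudoCoherentModule'_sections
    (hO : ∀ m : ℤ, DCoh.IsPseudoCoherentD m
      (DCoh.inD Y ((pushforward f).obj (Coh.structureModule X))))
    {V : Y.Opens} (hV : IsAffineOpen V) :
    letI : Algebra Γ(Y, V) Γ(X, f ⁻¹ᵁ V) := (f.appLE V (f ⁻¹ᵁ V) le_rfl).hom.toAlgebra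
    DRing.IsPseudoCoherentModule' Γ(Y, V) Γ(X, f ⁻¹ᵁ V) := by
  let _ : Algebra Γ(Y, V) Γ(X, f ⁻¹ᵁ V) := (f.appLE V (f ⁻¹ᵁ V) le_rfl).hom.toAlgebra
  apply Groth.Agent.Lib.Helper6.Resol.isPC'_of_forall_isPC
  intro m
  obtain ⟨e0⟩ := nonempty_Rpush_inD_structureModule_iso f
  have h1 : DCoh.IsPseudoCoherentD m ((DCoh.Rpush f).obj (DCoh.inD X (Coh.structureModule X))) :=
    isPseudoCoherentD_of_iso m e0.symm (hO m)
  have h2 := isPseudoCoherentD_chartObj hV _ m h1
  obtain ⟨e'⟩ := nonempty_chartObj_Rpush_iso_tildeD f hV _ _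
    (chartObjStructureIso (hV.preimage f))
  have h3 := isPC_of_isPseudoCoherentD_tildeD _ _ m (isPseudoCoherentD_of_iso m e' h2)
  let e3 : (DRing.restrictD (f.appLE V (f ⁻¹ᵁ V) le_rfl).hom).obj
      ((DerivedCategory.singleFunctor (ModuleCat.{u} Γ(X, f ⁻¹ᵁ V)) 0).obj
        (ModuleCat.of Γ(X, f ⁻¹ᵁ V) Γ(X, f ⁻¹ᵁ V))) ≅
      Dual.inD Γ(Y, V) Γ(X, f ⁻¹ᵁ V) :=
    ((ModuleCat.restrictScalars.{u}
      (f.appLE V (f ⁻¹ᵁ V) le_rfl).hom).mapDerivedCategorySingleFunctor 0).app _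
  exact Groth.Agent.Lib.Helper6.MPC.isPC_of_iso e3 h3

end HB

section Main

variable {X Y : Scheme.{u}} (f : X ⟶ Y) [IsAffineHom f] [DCoh.HasRpush f]

lemma exists_affine_nhd (y : Y) : ∃ V : Y.Opens, IsAffineOpen V ∧ y ∈ V := by
  obtain ⟨_, ⟨V, hV, rfl⟩, hyV, -⟩ := Y.isBasis_affineOpens.exists_subset_of_mem_open
    (Set.mem_univ y) isOpen_univ
  exact ⟨V, hV, hyV⟩

/-- for an affine morphism `f` with `f_* O_X` pseudo-coherent and `E ∈ D_QCoh(O_X)`: `E` is
`m`-pseudo-coherent iff `Rf_* E` is -/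
theorem isPseudoCoherentD_Rpush_iff
    (hO : ∀ m : ℤ, DCoh.IsPseudoCoherentD m
      (DCoh.inD Y ((pushforward f).obj (Coh.structureModule X))))
    (E : DCoh.D X) (hE : DCoh.IsQCohD E) (m : ℤ) :
    DCoh.IsPseudoCoherentD m E ↔ DCoh.IsPseudoCoherentD m ((DCoh.Rpush f).obj E) := by
  constructor
  · intro h
    apply isPseudoCoherentD_of_charts
    intro y
    obtain ⟨V, hV, hyV⟩ := exists_affine_nhd y
    refine ⟨V, hV, hyV, ?_⟩
    exact (isPseudoCoherentD_chart_iff f hV E hE m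
      (isPseudoCoherentModule'_sections f hO hV)).mp
      (isPseudoCoherentD_chartObj (hV.preimage f) E m h)
  · intro h
    apply isPseudoCoherentD_of_charts
    intro x
    obtain ⟨V, hV, hxV⟩ := exists_affine_nhd (f x)
    refine ⟨f ⁻¹ᵁ V, hV.preimage f, hxV, ?_⟩
    exact (isPseudoCoherentD_chart_iff f hV E hE m
      (isPseudoCoherentModule'_sections f hO hV)).mpr
      (isPseudoCoherentD_chartObj hV _ m h)

end Main

end Groth.Agent.Lib.Helper30.AffinePush
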