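import Mathlib
import Groth.Prelude.Def_DCoh2
import Groth.Prelude.Def_DCoh3
import Groth.Agent.Lib.Helper30.AffinePush.FinitePush
import Groth.Agent.Lib.Helper49.QCohLocal

/-!
# `Rf_*` preserves `D_QCoh` for affine `f`, without boundedness (helper30)

* `isQCohD_of_charts`: quasi-coherence of the cohomology sheaves can be checked on affine charts.
* `isQCohD_tildeD`: `M~` has quasi-coherent cohomology sheaves.
* `isQCohD_Rpush_of_isAffineHom`: for `f` affine and `E ∈ D_QCoh(O_X)` (unbounded),
  `Rf_* E ∈ D_QCoh(O_Y)`.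
-/

set_option autoImplicit false
universe u
open CategoryTheory CategoryTheory.Limits AlgebraicGeometry TopologicalSpace Opposite
attribute [local instance] HasDerivedCategory.standard

namespace Groth.Agent.Lib.Helper30.AffinePush

open Scheme.Modules Groth.Agent.Lib.Helper5 Groth.Agent.Lib.Helper30.PerfRestrict
  Groth.Agent.Lib.Helper30.RelTorRestrict Groth.Agent.Lib.Helper30.TildePC
  Groth.Agent.Lib.Helper30.SinglePC

/-- quasi-coherence of the cohomology sheaves can be checked on the affine charts -/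
theorem isQCohD_of_charts {X : Scheme.{u}} (K : DCoh.D X)
    (h : ∀ U : X.affineOpens, DCoh.IsQCohD (chartObj U.2 K)) : DCoh.IsQCohD K := by
  intro i
  apply Groth.Agent.Lib.Helper49.isQuasicoherent_of_forall_fromSpec
  intro U
  have h1 : DCoh.IsQCohD ((rD U.2.fromSpec).obj K) := by
    intro j
    exact Groth.Agent.Lib.Helper49.isQuasicoherent_of_iso
      ((DerivedCategory.homologyFunctor _ j).mapIso (chartIso U.2 K)) (h U j)
  exact Groth.Agent.Lib.Helper49.isQuasicoherent_of_iso
    ((Groth.Agent.Lib.Helper6.ExactDC.homologyIso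
      (Scheme.Modules.restrictFunctor U.2.fromSpec) i).app K) (h1 i)

/-- `M~` has quasi-coherent cohomology sheaves -/
theorem isQCohD_tildeD (R : CommRingCat.{u}) (M : DerivedCategory (ModuleCat.{u} R)) :
    DCoh.IsQCohD ((DCoh.tildeD R).obj M) :=
  ((Groth.Agent.S0997.result R).2.2 _).mpr ⟨M, ⟨Iso.refl _⟩⟩

/-- `Rf_*` preserves `D_QCoh` for `f` affine -/
theorem isQCohD_Rpush_of_isAffineHom {X Y : Scheme.{u}} (f : X ⟶ Y) [IsAffineHom f]
    [DCoh.HasRpush f] (E : DCoh.D X) (hE : DCoh.IsQCohD E) :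
    DCoh.IsQCohD ((DCoh.Rpush f).obj E) := by
  apply isQCohD_of_charts
  intro V
  obtain ⟨M, ⟨e⟩⟩ := exists_chart (V.2.preimage f) E hE
  obtain ⟨e'⟩ := nonempty_chartObj_Rpush_iso_tildeD f V.2 E M e
  intro j
  exact Groth.Agent.Lib.Helper49.isQuasicoherent_of_iso
    ((DerivedCategory.homologyFunctor _ j).mapIso e'.symm) (isQCohD_tildeD _ _ j)

end Groth.Agent.Lib.Helper30.AffinePush
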